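import Groth.Agent.PicLocDescLib.Hens
import Groth.Agent.DescAppLib.LineApps
import Groth.Agent.CohCmpLib.PicApps
import Groth.Agent.AmpleDevLib.Devissage
import Groth.Agent.TwistLib.SpecSections
import Groth.Agent.FinPicLib.SemiLocal
import Groth.Agent.AlgSpLib.SrcLocal

/-!
# Descent of classes from the base change of the affine hull
-/

set_option autoImplicit false
set_option backward.isDefEq.respectTransparency false
set_option maxHeartbeats 1000000

noncomputable section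

universe u

open CategoryTheory CategoryTheory.Limits AlgebraicGeometry TopologicalSpace Opposite
open KFlatLib (pb puSec)

namespace PicLocDescLib

open HensFamLib

variable {k R : Type u} [Field k] [CommRing R] [IsLocalRing R] [Algebra k R]
variable (hres : Function.Bijective (algebraMap k (IsLocalRing.ResidueField R))) (𝓗 : PicLoc.HensFamily k R)
variable {X : Scheme.{u}} (f : X ⟶ Spec (CommRingCat.of R))

/-- `X~_B`. -/
abbrev Xt (B : CommAlgCat.{u} k) : Scheme.{u} := (PicLoc.twist f 𝓗.G).obj (op B)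

/-- `S~_B`. -/
abbrev St (B : CommAlgCat.{u} k) : Scheme.{u} := (PicLoc.twist (PicLoc.fS f) 𝓗.G).obj (op B)

/-- `X~_B ⟶ S~_B`. -/
abbrev pS (B : CommAlgCat.{u} k) : Xt 𝓗 f B ⟶ St 𝓗 f B := (PicLoc.toS f 𝓗.G).app (op B)

/-- `S~_B ⟶ Spec G(B)`. -/
def sB (B : CommAlgCat.{u} k) : St 𝓗 f B ⟶ Spec (𝓗.G.obj B).right := pullback.snd _ _

theorem isPullback_sB (B : CommAlgCat.{u} k) :
    IsPullback (PicLoc.twistFst (PicLoc.fS f) 𝓗.G (op B)) (sB 𝓗 f B) (PicLoc.fS f) (Spec.map (𝓗.G.obj B).hom) :=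
  IsPullback.of_hasPullback _ _

theorem isPullback_pS (B : CommAlgCat.{u} k) :
    IsPullback (PicLoc.twistFst f 𝓗.G (op B)) (pS 𝓗 f B) X.toSpecΓ (PicLoc.twistFst (PicLoc.fS f) 𝓗.G (op B)) := by
  refine IsPullback.of_bot (v₂₁ := sB 𝓗 f B) (v₂₂ := PicLoc.fS f) (h₃₁ := Spec.map (𝓗.G.obj B).hom) ?_
    (PicLoc.twistMapX_app_fst _ _ _ _).symm (isPullback_sB 𝓗 f B)
  rw [PicLoc.toSpecΓ_fS]
  have e : pS 𝓗 f B ≫ sB 𝓗 f B = pullback.snd f (Spec.map (𝓗.G.obj B).hom) :=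
    (pullback.lift_snd _ _ _).trans (Category.comp_id _)
  rw [e]
  exact IsPullback.of_hasPullback _ _

/-- The squares of the comparison maps. -/
theorem isPullback_map {B B' : CommAlgCat.{u} k} (φ : B ⟶ B') :
    IsPullback ((PicLoc.twist f 𝓗.G).map φ.op) (pS 𝓗 f B') (pS 𝓗 f B) ((PicLoc.twist (PicLoc.fS f) 𝓗.G).map φ.op) := by
  refine IsPullback.of_right ?_ ((PicLoc.toS f 𝓗.G).naturality φ.op) (isPullback_pS 𝓗 f B)
  rw [PicLoc.twist_map_fst, PicLoc.twist_map_fst]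
  exact isPullback_pS 𝓗 f B'

theorem isPullback_mapS {B B' : CommAlgCat.{u} k} (φ : B ⟶ B') :
    IsPullback ((PicLoc.twist (PicLoc.fS f) 𝓗.G).map φ.op) (sB 𝓗 f B') (sB 𝓗 f B) (Spec.map (𝓗.G.map φ).right) := by
  refine IsPullback.of_right ?_ (pullback.lift_snd _ _ _) (isPullback_sB 𝓗 f B)
  rw [PicLoc.twist_map_fst, ← Spec.map_comp, Under.w]
  exact isPullback_sB 𝓗 f B'

include hres in
theorem flat_twistFst (B : CommAlgCat.{u} k) : Flat (PicLoc.twistFst (PicLoc.fS f) 𝓗.G (op B)) := by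
  have h : Flat (Spec.map (𝓗.G.obj B).hom) :=
    (HasRingHomProperty.Spec_iff (P := @Flat)).2 (RingHom.flat_algebraMap_iff.2 (HensFamLib.flat 𝓗 (A := B)))
  exact MorphismProperty.pullback_fst _ _ h

variable [QuasiCompact f] [QuasiSeparated f]

include f in
omit [IsLocalRing R] in
theorem bijective_toSpecΓ_app (U : (Spec Γ(X, ⊤)).Opens) : Function.Bijective (X.toSpecΓ.app U) := by
  haveI : CompactSpace X := QuasiCompact.compactSpace_of_compactSpace f
  haveI : QuasiSeparatedSpace X := quasiSeparatedSpace_of_quasiSeparated f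
  haveI : IsIso (ClSub.unitToPush X.toSpecΓ) := by
    refine RpushLib.isIso_of_bijective_basis _ (B := Set.range fun r : Γ(X, ⊤) => PrimeSpectrum.basicOpen r) ?_ ?_
    · exact PrimeSpectrum.isBasis_basic_opens
    · rintro _ ⟨r, rfl⟩
      exact ConcreteCategory.bijective_of_isIso (X.toSpecΓ.app (PrimeSpectrum.basicOpen r))
  exact ConcreteCategory.bijective_of_isIso ((ClSub.unitToPush X.toSpecΓ).app U)

include f in
omit [IsLocalRing R] in
theorem qcqs_toSpecΓ : QuasiCompact X.toSpecΓ ∧ QuasiSeparated X.toSpecΓ := by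
  haveI : QuasiCompact (X.toSpecΓ ≫ PicLoc.fS f) := by rw [PicLoc.toSpecΓ_fS]; infer_instance
  haveI : QuasiSeparated (X.toSpecΓ ≫ PicLoc.fS f) := by rw [PicLoc.toSpecΓ_fS]; infer_instance
  exact ⟨QuasiCompact.of_comp X.toSpecΓ (PicLoc.fS f), QuasiSeparated.of_comp X.toSpecΓ (PicLoc.fS f)⟩

theorem qcqs_pS (B : CommAlgCat.{u} k) : QuasiCompact (pS 𝓗 f B) ∧ QuasiSeparated (pS 𝓗 f B) :=
  ⟨MorphismProperty.of_isPullback (isPullback_pS 𝓗 f B) (qcqs_toSpecΓ f).1,
    MorphismProperty.of_isPullback (isPullback_pS 𝓗 f B) (qcqs_toSpecΓ f).2⟩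

include hres in
theorem bijective_pS_app (B : CommAlgCat.{u} k) (U : (St 𝓗 f B).Opens) : Function.Bijective ((pS 𝓗 f B).app U) := by
  haveI := (qcqs_toSpecΓ f).1
  haveI := (qcqs_toSpecΓ f).2
  haveI := flat_twistFst hres 𝓗 f B
  let t := PicLoc.twistFst (PicLoc.fS f) 𝓗.G (op B)
  haveI := DescAppLib.isIso_unitToPush_snd X.toSpecΓ (bijective_toSpecΓ_app f) t
  haveI : IsIso ((pullback.snd X.toSpecΓ t).app U) :=
    (ConcreteCategory.isIso_iff_bijective _).2
      (ConcreteCategory.bijective_of_isIso ((ClSub.unitToPush (pullback.snd X.toSpecΓ t)).app U))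
  have e : pS 𝓗 f B = (isPullback_pS 𝓗 f B).isoPullback.hom ≫ pullback.snd X.toSpecΓ t :=
    (IsPullback.isoPullback_hom_snd _).symm
  rw [e, Scheme.Hom.comp_app]
  exact ConcreteCategory.bijective_of_isIso _

include hres in
theorem isIso_unit_pS (B : CommAlgCat.{u} k) {N : (St 𝓗 f B).Modules} (hN : PicF.IsInvertible N) :
    IsIso ((Scheme.Modules.pullbackPushforwardAdjunction (pS 𝓗 f B)).unit.app N) := by
  haveI : IsIso (ClSub.unitToPush (pS 𝓗 f B)) :=
    RpushLib.isIso_of_bijective_basis _ (B := Set.univ)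
      (Opens.isBasis_iff_nbhd.2 fun {U _} hx => ⟨U, trivial, hx, le_rfl⟩) fun U _ => bijective_pS_app hres 𝓗 f B U
  exact CohCmpLib.isIso_unit_of_unitToPush _ (AmpleDevLib.isFinLocFree_of_isInvertible hN)

theorem iso_of_pullback {Y Z : Scheme.{u}} (p : Y ⟶ Z) {N₁ N₂ : Z.Modules}
    (h₁ : IsIso ((Scheme.Modules.pullbackPushforwardAdjunction p).unit.app N₁))
    (h₂ : IsIso ((Scheme.Modules.pullbackPushforwardAdjunction p).unit.app N₂))
    (e : (Scheme.Modules.pullback p).obj N₁ ≅ (Scheme.Modules.pullback p).obj N₂) : Nonempty (N₁ ≅ N₂) :=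
  let a := Scheme.Modules.pullbackPushforwardAdjunction p
  ⟨asIso (a.unit.app N₁) ≪≫ (Scheme.Modules.pushforward p).mapIso e ≪≫ (asIso (a.unit.app N₂)).symm⟩

omit [QuasiCompact f] [QuasiSeparated f] in
theorem exists_pull_iff {Y Z : Scheme.{u}} (p : Y ⟶ Z)
    (hp : ∀ N : Z.Modules, PicF.IsInvertible N → IsIso ((Scheme.Modules.pullbackPushforwardAdjunction p).unit.app N))
    (L : Y.Modules) :
    (∃ N, PicF.IsInvertible N ∧ Nonempty ((Scheme.Modules.pullback p).obj N ≅ L)) ↔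
      PicF.IsInvertible ((Scheme.Modules.pushforward p).obj L) ∧
        IsIso ((Scheme.Modules.pullbackPushforwardAdjunction p).counit.app L) := by
  let a := Scheme.Modules.pullbackPushforwardAdjunction p
  constructor
  · rintro ⟨N, hN, ⟨e⟩⟩
    haveI := hp N hN
    refine ⟨TwistLib.isInvertible_congr (asIso (a.unit.app N) ≪≫ (Scheme.Modules.pushforward p).mapIso e) hN, ?_⟩
    haveI : IsIso ((Scheme.Modules.pullback p).map (a.unit.app N) ≫
        a.counit.app ((Scheme.Modules.pullback p).obj N)) := by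
      exact (congrArg (fun φ => IsIso φ) (a.left_triangle_components N)).mpr (inferInstanceAs (IsIso (𝟙 _)))
    haveI : IsIso (a.counit.app ((Scheme.Modules.pullback p).obj N)) :=
      IsIso.of_isIso_comp_left ((Scheme.Modules.pullback p).map (a.unit.app N)) _
    haveI : IsIso ((Scheme.Modules.pushforward p ⋙ Scheme.Modules.pullback p).map e.hom ≫ a.counit.app L) := by
      rw [a.counit.naturality e.hom]
      exact IsIso.comp_isIso' inferInstance (inferInstanceAs (IsIso e.hom))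
    exact IsIso.of_isIso_comp_left
      ((Scheme.Modules.pushforward p ⋙ Scheme.Modules.pullback p).map e.hom) _
  · rintro ⟨hN, h⟩
    exact ⟨_, hN, ⟨@asIso _ _ _ _ _ h⟩⟩

include hres in
theorem iso_of_pull (B : CommAlgCat.{u} k) {N₁ N₂ : (St 𝓗 f B).Modules} (h₁ : PicF.IsInvertible N₁)
    (h₂ : PicF.IsInvertible N₂) (e : pb (pS 𝓗 f B) N₁ ≅ pb (pS 𝓗 f B) N₂) : Nonempty (N₁ ≅ N₂) :=
  iso_of_pullback _ (isIso_unit_pS hres 𝓗 f B h₁) (isIso_unit_pS hres 𝓗 f B h₂) e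

include hres in
theorem isInvertible_push_iff (B : CommAlgCat.{u} k) (L : (Xt 𝓗 f B).Modules) :
    (∃ N, PicF.IsInvertible N ∧ Nonempty (pb (pS 𝓗 f B) N ≅ L)) ↔
      PicF.IsInvertible ((Scheme.Modules.pushforward (pS 𝓗 f B)).obj L) ∧
        IsIso ((Scheme.Modules.pullbackPushforwardAdjunction (pS 𝓗 f B)).counit.app L) :=
  exists_pull_iff _ (fun _ hN => isIso_unit_pS hres 𝓗 f B hN) L

include hres in
/-- Classes which come from `S~` on a flat covering come from `S~`. -/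
theorem exists_descend (B : CommAlgCat.{u} k) {ι : Type u} [Finite ι] (B' : ι → CommAlgCat.{u} k)
    (φ : ∀ i, B ⟶ B' i) (hflat : ∀ i, (φ i).hom.toRingHom.Flat)
    (hsurj : ∀ p : PrimeSpectrum B, ∃ i, p ∈ Set.range (PrimeSpectrum.comap (φ i).hom.toRingHom))
    (L : (Xt 𝓗 f B).Modules)
    (h : ∀ i, ∃ N, PicF.IsInvertible N ∧
      Nonempty (pb ((PicLoc.twist f 𝓗.G).map (φ i).op) L ≅ pb (pS 𝓗 f (B' i)) N)) :
    ∃ N, PicF.IsInvertible N ∧ Nonempty (pb (pS 𝓗 f B) N ≅ L) := by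
  haveI := (qcqs_pS 𝓗 f B).1
  haveI := (qcqs_pS 𝓗 f B).2
  choose N' hN' e using h
  let g : ∀ i, St 𝓗 f (B' i) ⟶ St 𝓗 f B := fun i => (PicLoc.twist (PicLoc.fS f) 𝓗.G).map (φ i).op
  have hGf : ∀ i, Flat (Spec.map (𝓗.G.map (φ i)).right) := fun i =>
    (HasRingHomProperty.Spec_iff (P := @Flat)).2 (flat_Gmap 𝓗 (φ i).hom (hflat i))
  have hgs : ∀ y, ∃ i, y ∈ Set.range (g i) := fun y => by
    obtain ⟨i, q, hq⟩ := exists_comap_Gmap 𝓗 hres (fun i => (φ i).hom) hflat hsurj (sB 𝓗 f B y)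
    obtain ⟨z, hz, -⟩ := Scheme.Pullback.exists_preimage_pullback (f := sB 𝓗 f B)
      (g := Spec.map (𝓗.G.map (φ i)).right) y q hq.symm
    refine ⟨i, (isPullback_mapS 𝓗 f (φ i)).isoPullback.inv z, ?_⟩
    rw [← Scheme.Hom.comp_apply, IsPullback.isoPullback_inv_fst]
    exact hz
  haveI : ∀ i, IsAffineHom (g i) := fun i =>
    MorphismProperty.of_isPullback (isPullback_mapS 𝓗 f (φ i)).flip (inferInstance : IsAffineHom (Spec.map _))
  refine DescAppLib.exists_descend_family (pS 𝓗 f B) g ?_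
    (fun T t ht => DescAppLib.bijective_snd_appTop (pS 𝓗 f B) (bijective_pS_app hres 𝓗 f B) t) L
    (fun i => (PicLoc.twist f 𝓗.G).map (φ i).op) (fun i => pS 𝓗 f (B' i)) (fun i => isPullback_map 𝓗 f (φ i))
    N' hN' fun i => (e i).some
  refine AlgSpLib.ofArrows_mem_fpqcPrecoverage
    (fun i => MorphismProperty.of_isPullback (isPullback_mapS 𝓗 f (φ i)).flip (hGf i)) hgs ⟨fun {U} hU => ?_⟩
  refine IsCompactOpenCovered.of_finite (κ := ι) id (fun i => g i ⁻¹ᵁ U)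
    (fun i => (hU.preimage (g i)).isCompact) (Set.Subset.antisymm ?_ ?_)
  · exact Set.iUnion_subset fun i => Set.image_subset_iff.2 fun z hz => hz
  · intro x hx
    obtain ⟨i, z, rfl⟩ := hgs x
    exact Set.mem_iUnion.2 ⟨i, z, hx, rfl⟩

include hres in
/-- A line bundle on `S~_B` is trivial locally on `B`. -/
theorem exists_local_trivial (hfin : (PicLoc.globUnder f).hom.hom.Finite) (B : CommAlgCat.{u} k)
    {N : (St 𝓗 f B).Modules} (hN : PicF.IsInvertible N) (p : PrimeSpectrum B) :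
    ∃ g : B, g ∉ p.asIdeal ∧ ∀ (B' : CommAlgCat.{u} k) (φ : B ⟶ B'), IsUnit (φ.hom g) →
      Nonempty (pb ((PicLoc.twist (PicLoc.fS f) 𝓗.G).map φ.op) N ≅ Coh.structureModule _) := by
  haveI : IsFinite (PicLoc.fS f) := (IsFinite.SpecMap_iff _).2 hfin
  haveI : IsFinite (sB 𝓗 f B) := MorphismProperty.pullback_snd _ _ inferInstance
  haveI : IsAffine (St 𝓗 f B) := isAffine_of_isAffineHom (sB 𝓗 f B)
  let s := sB 𝓗 f B
  let q : PrimeSpectrum (Gr 𝓗 B) := PrimeSpectrum.comap (rho hres B 𝓗) p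
  obtain ⟨σ, hσ⟩ := FinPicLib.exists_genAt_finite hN ⟨⊤, isAffineOpen_top _⟩ (F := s ⁻¹' {q})
    (s.finite_preimage_singleton q) (fun _ _ => trivial) fun a ha b hb hab => by
      haveI := (s.isDiscrete_preimage_singleton q).to_subtype
      have h' : (⟨a, ha⟩ : ↥(s ⁻¹' {q})) ⤳ ⟨b, hb⟩ := (subtype_specializes_iff _ _).2 hab
      exact congrArg Subtype.val (specializes_iff_eq.1 h')
  let W : Set (St 𝓗 f B) := {y | AmpleLib.GenAt N σ (show y ∈ (⊤ : (St 𝓗 f B).Opens) from trivial)}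
  have hZ : IsClosed (s '' Wᶜ) := s.isClosedMap _ (TwistLib.isOpen_genAt hN σ).isClosed_compl
  have hq : q ∈ (s '' Wᶜ)ᶜ := fun ⟨y, hy, hyq⟩ => hy (hσ y hyq)
  obtain ⟨_, ⟨h, rfl⟩, hqh, hh⟩ :=
    PrimeSpectrum.isTopologicalBasis_basic_opens.exists_subset_of_mem_open hq hZ.isOpen_compl
  refine ⟨rho hres B 𝓗 h, hqh, fun B' φ hu => ?_⟩
  let m := (PicLoc.twist (PicLoc.fS f) 𝓗.G).map φ.op
  have hu' : IsUnit (Gmap 𝓗 φ.hom h) := by
    by_contra hc
    obtain ⟨M, hM, hhM⟩ := exists_max_ideal_of_mem_nonunits hc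
    obtain ⟨c, hc'⟩ := isUnit_iff_exists_inv.1 hu
    obtain ⟨z, rfl⟩ := rho_surjective hres B' 𝓗 c
    have : Gmap 𝓗 φ.hom h * z - 1 ∈ RingHom.ker (rho hres B' 𝓗) := by
      rw [RingHom.mem_ker, map_sub, map_mul, map_one, rho_Gmap, sub_eq_zero]
      exact hc'
    exact hM.ne_top ((Ideal.eq_top_iff_one M).2
      (by simpa using sub_mem (Ideal.mul_mem_right z M hhM) (ker_rho_le hres B' 𝓗 M this)))
  have hgen : ∀ y, AmpleLib.GenAt N σ (show m y ∈ (⊤ : (St 𝓗 f B).Opens) from trivial) := fun y => by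
    by_contra hy
    have h1 : s (m y) = Spec.map (𝓗.G.map φ).right (sB 𝓗 f B' y) := by
      rw [← Scheme.Hom.comp_apply, ← Scheme.Hom.comp_apply, (isPullback_mapS 𝓗 f φ).w]
    refine hh (show s (m y) ∈ PrimeSpectrum.basicOpen h from ?_) ⟨m y, hy, rfl⟩
    rw [h1]
    exact fun hmem => (sB 𝓗 f B' y).isPrime.ne_top (Ideal.eq_top_of_isUnit_mem _ hmem hu')
  exact CubeLib.trivial_of_genOn_top (s := puSec m σ)
    (TwistLib.genOn_of_genAt fun y _ => TwistLib.GenAt.puSec m (U := (⊤ : (St 𝓗 f B).Opens)) (hgen y))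

end PicLocDescLib
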