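import Groth.Agent.HensFamLib.Basic
import Groth.Agent.GeomRedFibLib.SepAlg
import Mathlib.AlgebraicGeometry.Morphisms.Flat

/-!
# The transition maps of a henselized tensor product family along flat maps
-/

set_option autoImplicit false
set_option backward.isDefEq.respectTransparency false
universe u

open CategoryTheory TensorProduct IsLocalRing

noncomputable section

namespace PicLocDescLib

open HensFamLib

variable {k R : Type u} [Field k] [CommRing R] [IsLocalRing R] [Algebra k R]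

section Residue

variable (hres : Function.Bijective (algebraMap k (ResidueField R))) (A : Type u) [CommRing A] [Algebra k A]

/-- The residue map `R → k`. -/
def resk : R →ₐ[k] k :=
  (AlgEquiv.ofBijective (Algebra.ofId k (ResidueField R)) hres).symm.toAlgHom.comp
    (IsScalarTower.toAlgHom k R (ResidueField R))

theorem resk_eq_zero {r : R} (h : r ∈ maximalIdeal R) : resk hres r = 0 := by
  show (AlgEquiv.ofBijective (Algebra.ofId k (ResidueField R)) hres).symm (algebraMap R (ResidueField R) r) = 0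
  rw [show algebraMap R (ResidueField R) r = 0 from residue_eq_zero_iff r |>.2 h, map_zero]

theorem sub_resk_mem (r : R) : r - algebraMap k R (resk hres r) ∈ maximalIdeal R := by
  rw [← residue_eq_zero_iff, map_sub, sub_eq_zero]
  show algebraMap R (ResidueField R) r = algebraMap R (ResidueField R) (algebraMap k R (resk hres r))
  rw [← IsScalarTower.algebraMap_apply k R (ResidueField R)]
  exact ((AlgEquiv.ofBijective (Algebra.ofId k (ResidueField R)) hres).apply_symm_apply _).symm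

/-- Reduction `R ⊗ A → A`. -/
def red : R ⊗[k] A →ₐ[k] A :=
  Algebra.TensorProduct.lift ((Algebra.ofId k A).comp (resk hres)) (AlgHom.id k A) fun _ _ => Commute.all _ _

theorem map_mExt_red : (PicLoc.mExt k R A).map (red hres A).toRingHom ≤ ⊥ := by
  rw [PicLoc.mExt, Ideal.map_map, Ideal.map_le_iff_le_comap]
  intro r hr
  show red hres A (r ⊗ₜ[k] (1 : A)) = 0
  simp [red, resk_eq_zero hres hr]

theorem mem_mExt_of_red {z : R ⊗[k] A} (h : red hres A z = 0) : z ∈ PicLoc.mExt k R A := by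
  have key : ∀ z, z - Algebra.TensorProduct.includeRight (red hres A z) ∈ PicLoc.mExt k R A := fun z => by
    induction z using TensorProduct.induction_on with
    | zero => simp
    | add a b ha hb => rw [map_add, map_add, add_sub_add_comm]; exact add_mem ha hb
    | tmul r a =>
      have e : r ⊗ₜ[k] a - Algebra.TensorProduct.includeRight (red hres A (r ⊗ₜ a)) =
          ((1 : R) ⊗ₜ[k] a) * ((r - algebraMap k R (resk hres r)) ⊗ₜ[k] (1 : A)) := by
        simp only [red, Algebra.TensorProduct.lift_tmul, AlgHom.comp_apply, AlgHom.id_apply,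
          Algebra.TensorProduct.includeRight_apply, Algebra.TensorProduct.tmul_mul_tmul, one_mul, mul_one,
          TensorProduct.sub_tmul, Algebra.ofId_apply, ← Algebra.smul_def, TensorProduct.tmul_smul,
          TensorProduct.smul_tmul', ← Algebra.algebraMap_eq_smul_one, mul_sub]
      rw [e]
      exact Ideal.mul_mem_left _ _ (Ideal.mem_map_of_mem _ (sub_resk_mem hres r))
  simpa [h] using key z

variable (𝓗 : PicLoc.HensFamily k R)

theorem exists_rho : ∃ ρ : Gr 𝓗 A →+* A,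
    ρ.comp (algebraMap (R ⊗[k] A) (Gr 𝓗 A)) = (red hres A).toRingHom :=
  ((isHens 𝓗 A).2 A ⊥ _ (PairHensLib.henselianRing_of_isNilpotent ⊥ ⟨1, by simp⟩) (map_mExt_red hres A)).exists

/-- Reduction `G(A) → A`. -/
def rho : Gr 𝓗 A →+* A := (exists_rho hres A 𝓗).choose

theorem rho_algebraMap (z : R ⊗[k] A) : rho hres A 𝓗 (algebraMap _ (Gr 𝓗 A) z) = red hres A z :=
  RingHom.congr_fun (exists_rho hres A 𝓗).choose_spec z

theorem rho_surjective : Function.Surjective (rho hres A 𝓗) := fun a =>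
  ⟨algebraMap _ (Gr 𝓗 A) ((1 : R) ⊗ₜ a), by rw [rho_algebraMap]; simp [red]⟩

theorem map_mExt_rho {x : Gr 𝓗 A} (hx : x ∈ (PicLoc.mExt k R A).map (algebraMap _ (Gr 𝓗 A))) :
    rho hres A 𝓗 x = 0 := by
  have : ((PicLoc.mExt k R A).map (algebraMap _ (Gr 𝓗 A))).map (rho hres A 𝓗) ≤ ⊥ := by
    rw [Ideal.map_map, show (rho hres A 𝓗).comp (algebraMap _ (Gr 𝓗 A)) = (red hres A).toRingHom from
      RingHom.ext (rho_algebraMap hres A 𝓗)]
    exact map_mExt_red hres A
  exact this (Ideal.mem_map_of_mem _ hx)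

theorem ker_rho_le (q : Ideal (Gr 𝓗 A)) [q.IsMaximal] : RingHom.ker (rho hres A 𝓗) ≤ q := by
  haveI := (isHens 𝓗 A).1
  have hm : (PicLoc.mExt k R A).map (algebraMap _ (Gr 𝓗 A)) ≤ q := fun c hc =>
    (Ideal.mem_sInf.1 (HenselianRing.jac hc : c ∈ Ideal.jacobson ⊥)) ⟨bot_le, ‹q.IsMaximal›⟩
  intro x hx
  obtain ⟨z, hz⟩ := PairHensLib.exists_sub_mem_pow (isHens 𝓗 A) 1 x
  rw [pow_one] at hz
  have h0 : red hres A z = 0 := by
    have := map_mExt_rho hres A 𝓗 hz
    rw [map_sub, rho_algebraMap, RingHom.mem_ker.1 hx, zero_sub, neg_eq_zero] at this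
    exact this
  rw [← sub_add_cancel x (algebraMap _ (Gr 𝓗 A) z)]
  exact add_mem (hm hz) (hm (Ideal.mem_map_of_mem _ (mem_mExt_of_red hres A h0)))

variable {A}

theorem rho_Gmap {A' : Type u} [CommRing A'] [Algebra k A'] (f : A →ₐ[k] A') (x : Gr 𝓗 A) :
    rho hres A' 𝓗 (Gmap 𝓗 f x) = f (rho hres A 𝓗 x) := by
  refine RingHom.congr_fun (((isHens 𝓗 A).2 A' ⊥ (f.toRingHom.comp (red hres A).toRingHom)
    (PairHensLib.henselianRing_of_isNilpotent ⊥ ⟨1, by simp⟩) ?_).unique
    (y₁ := (rho hres A' 𝓗).comp (Gmap 𝓗 f).toRingHom) (y₂ := f.toRingHom.comp (rho hres A 𝓗)) ?_ ?_) x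
  · rw [← Ideal.map_map]
    exact (Ideal.map_mono (map_mExt_red hres A)).trans (Ideal.map_bot).le
  · refine RingHom.ext fun z => ?_
    show rho hres A' 𝓗 (Gmap 𝓗 f (algebraMap _ (Gr 𝓗 A) z)) = f (red hres A z)
    rw [Gmap_algebraMap, rho_algebraMap]
    induction z using TensorProduct.induction_on with
    | zero => simp
    | add a b ha hb => simp only [map_add, ha, hb]
    | tmul r a => simp [red]
  · refine RingHom.ext fun z => ?_
    show f (rho hres A 𝓗 (algebraMap _ (Gr 𝓗 A) z)) = f (red hres A z)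
    rw [rho_algebraMap]

end Residue

variable (𝓗 : PicLoc.HensFamily k R) {A A' : Type u} [CommRing A] [Algebra k A] [CommRing A'] [Algebra k A']

theorem flat_tensor_map (f : A →ₐ[k] A') (hf : f.toRingHom.Flat) :
    (Algebra.TensorProduct.map (AlgHom.id R R) f).toRingHom.Flat := by
  have e : (Algebra.TensorProduct.map (AlgHom.id R R) f).toRingHom =
      ((Algebra.TensorProduct.comm k A' R).toAlgHom.toRingHom.comp
        (Algebra.TensorProduct.map f (AlgHom.id k R)).toRingHom).comp (Algebra.TensorProduct.comm k R A).toAlgHom.toRingHom := by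
    refine RingHom.ext fun z => ?_
    induction z using TensorProduct.induction_on with
    | zero => simp
    | add a b ha hb => simp only [map_add, ha, hb]
    | tmul r a => rfl
  rw [e]
  exact RingHom.Flat.comp (RingHom.Flat.of_bijective (Algebra.TensorProduct.comm k R A).bijective)
    (RingHom.Flat.comp (GeomRedFibLib.flat_map_tensor k A A' R f hf)
      (RingHom.Flat.of_bijective (Algebra.TensorProduct.comm k A' R).bijective))

/-- The transition map along a flat map is flat. -/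
theorem flat_Gmap (f : A →ₐ[k] A') (hf : f.toRingHom.Flat) : (Gmap 𝓗 f).toRingHom.Flat := by
  letI : Algebra (R ⊗[k] A) (R ⊗[k] A') := (Algebra.TensorProduct.map (AlgHom.id R R) f).toRingHom.toAlgebra
  haveI : Module.Flat (R ⊗[k] A) (R ⊗[k] A') := flat_tensor_map f hf
  letI : Algebra (R ⊗[k] A) (Gr 𝓗 A') :=
    ((algebraMap (R ⊗[k] A') (Gr 𝓗 A')).comp (algebraMap (R ⊗[k] A) (R ⊗[k] A'))).toAlgebra
  haveI : IsScalarTower (R ⊗[k] A) (R ⊗[k] A') (Gr 𝓗 A') := IsScalarTower.of_algebraMap_eq fun _ => rfl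
  let g₀ : Gr 𝓗 A →ₐ[R ⊗[k] A] Gr 𝓗 A' := { (Gmap 𝓗 f).toRingHom with commutes' := fun z => Gmap_algebraMap 𝓗 f z }
  let t : Gr 𝓗 A ⊗[R ⊗[k] A] (R ⊗[k] A') →ₐ[R ⊗[k] A] Gr 𝓗 A' :=
    Algebra.TensorProduct.lift g₀ (IsScalarTower.toAlgHom (R ⊗[k] A) (R ⊗[k] A') (Gr 𝓗 A'))
      fun _ _ => Commute.all _ _
  let T := Gr 𝓗 A ⊗[R ⊗[k] A] (R ⊗[k] A')
  let inr : (R ⊗[k] A') →+* T := (Algebra.TensorProduct.includeRight : _ →ₐ[R ⊗[k] A] T).toRingHom
  letI : Algebra T (Gr 𝓗 A') := t.toRingHom.toAlgebra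
  have hinr : (algebraMap T (Gr 𝓗 A')).comp inr = algebraMap (R ⊗[k] A') (Gr 𝓗 A') :=
    RingHom.ext fun z => by
      show t ((1 : Gr 𝓗 A) ⊗ₜ z) = _
      simp [t]
  have hI : ((PicLoc.mExt k R A').map inr).map (algebraMap T (Gr 𝓗 A')) =
      (PicLoc.mExt k R A').map (algebraMap (R ⊗[k] A') (Gr 𝓗 A')) := by rw [Ideal.map_map, hinr]
  have hT : Hens2.IsPairHenselization T ((PicLoc.mExt k R A').map inr) (Gr 𝓗 A') := by
    refine ⟨hI.symm ▸ (isHens 𝓗 A').1, fun C _ J h hC hJ => ?_⟩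
    obtain ⟨g, hg, hgu⟩ := (isHens 𝓗 A').2 C J (h.comp inr) hC (by rwa [← Ideal.map_map])
    refine ⟨g, ?_, fun g' hg' => hgu g' (show g'.comp _ = h.comp inr by rw [← hinr, ← RingHom.comp_assoc, hg'])⟩
    have hl : (g.comp t.toRingHom).comp (Algebra.TensorProduct.includeLeftRingHom : Gr 𝓗 A →+* T) =
        h.comp Algebra.TensorProduct.includeLeftRingHom := by
      refine ((isHens 𝓗 A).2 C J ((h.comp inr).comp (algebraMap (R ⊗[k] A) (R ⊗[k] A'))) hC ?_).unique ?_ ?_
      · rw [← Ideal.map_map]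
        refine le_trans (Ideal.map_mono (le_of_eq ?_)) (by rwa [← Ideal.map_map] : (PicLoc.mExt k R A').map (h.comp inr) ≤ J)
        rw [PicLoc.mExt, PicLoc.mExt, Ideal.map_map]
        refine congrArg (fun φ => Ideal.map φ (maximalIdeal R)) (RingHom.ext fun r => ?_)
        show Algebra.TensorProduct.map (AlgHom.id R R) f (r ⊗ₜ 1) = r ⊗ₜ[k] (1 : A')
        simp
      · refine RingHom.ext fun z => ?_
        show g (t (algebraMap _ (Gr 𝓗 A) z ⊗ₜ 1)) = h (inr _)
        exact (congrArg g ((congrArg t (Algebra.TensorProduct.tmul_one_eq_one_tmul z)).trans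
          (RingHom.congr_fun hinr _))).trans (RingHom.congr_fun hg _)
      · refine RingHom.ext fun z => congrArg h ?_
        exact Algebra.TensorProduct.tmul_one_eq_one_tmul z
    refine RingHom.ext fun z => ?_
    show g (t z) = h z
    induction z using TensorProduct.induction_on with
    | zero => simp
    | add a b ha hb => simp only [map_add, ha, hb]
    | tmul a p =>
      rw [show a ⊗ₜ[R ⊗[k] A] p = (a ⊗ₜ[R ⊗[k] A] (1 : R ⊗[k] A')) * inr p by
        show _ = _ * ((1 : Gr 𝓗 A) ⊗ₜ[R ⊗[k] A] p); simp, map_mul, map_mul, map_mul]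
      exact congrArg₂ (· * ·) (RingHom.congr_fun hl a)
        ((congrArg g (RingHom.congr_fun hinr p)).trans (RingHom.congr_fun hg p))
  haveI : Module.Flat T (Gr 𝓗 A') := PairHensLib.flat_of_isPairHenselization hT
  have e : (Gmap 𝓗 f).toRingHom =
      (algebraMap T (Gr 𝓗 A')).comp (Algebra.TensorProduct.includeLeftRingHom : Gr 𝓗 A →+* T) :=
    RingHom.ext fun x => by
      show Gmap 𝓗 f x = t (x ⊗ₜ 1)
      simp [t, g₀]
  rw [e]
  refine RingHom.Flat.comp ?_ (RingHom.flat_algebraMap_iff.2 inferInstance)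
  exact RingHom.flat_algebraMap_iff.2 (inferInstanceAs (Module.Flat (Gr 𝓗 A) T))

/-- Flat jointly surjective maps give jointly surjective transition maps. -/
theorem exists_comap_Gmap (hres : Function.Bijective (algebraMap k (ResidueField R))) {ι : Type*}
    {B : ι → Type u} [∀ i, CommRing (B i)] [∀ i, Algebra k (B i)] (f : ∀ i, A →ₐ[k] B i)
    (hf : ∀ i, (f i).toRingHom.Flat)
    (hsurj : ∀ p : PrimeSpectrum A, ∃ i, p ∈ Set.range (PrimeSpectrum.comap (f i).toRingHom))
    (q : PrimeSpectrum (Gr 𝓗 A)) :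
    ∃ i, q ∈ Set.range (PrimeSpectrum.comap (Gmap 𝓗 (f i)).toRingHom) := by
  obtain ⟨m, hm, hqm⟩ := Ideal.exists_le_maximal q.asIdeal q.isPrime.ne_top
  have hker := ker_rho_le hres A 𝓗 m
  obtain ⟨p, hp⟩ : (⟨m, hm.isPrime⟩ : PrimeSpectrum _) ∈ Set.range (PrimeSpectrum.comap (rho hres A 𝓗)) := by
    rw [range_comap_of_surjective _ _ (rho_surjective hres A 𝓗)]
    exact hker
  obtain ⟨i, p', hp'⟩ := hsurj p
  refine ⟨i, ?_⟩
  have hm' : PrimeSpectrum.comap (Gmap 𝓗 (f i)).toRingHom (PrimeSpectrum.comap (rho hres (B i) 𝓗) p') = ⟨m, hm.isPrime⟩ := by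
    rw [← hp, ← hp']
    refine PrimeSpectrum.ext (Ideal.ext fun x => ?_)
    show rho hres (B i) 𝓗 (Gmap 𝓗 (f i) x) ∈ p'.asIdeal ↔ f i (rho hres A 𝓗 x) ∈ p'.asIdeal
    rw [rho_Gmap]
  let g := AlgebraicGeometry.Spec.map (CommRingCat.ofHom (Gmap 𝓗 (f i)).toRingHom)
  haveI : AlgebraicGeometry.Flat g :=
    (AlgebraicGeometry.HasRingHomProperty.Spec_iff (P := @AlgebraicGeometry.Flat)).2 (flat_Gmap 𝓗 (f i) (hf i))
  have hs : q ⤳ g (PrimeSpectrum.comap (rho hres (B i) 𝓗) p') := by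
    show q ⤳ PrimeSpectrum.comap (Gmap 𝓗 (f i)).toRingHom (PrimeSpectrum.comap (rho hres (B i) 𝓗) p')
    rw [hm', ← PrimeSpectrum.le_iff_specializes]
    exact hqm
  obtain ⟨z, -, hz⟩ := AlgebraicGeometry.Flat.generalizingMap g hs
  exact ⟨z, hz⟩

end PicLocDescLib
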