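import Groth.Agent.PicLocDescLib.Desc
import Groth.Agent.FppfLocusLib.Sheafify
import Groth.Prelude.Def_BigSite

/-!
# The presheaf of classes modulo the affine hull, and its associated sheaves
-/

set_option autoImplicit false
set_option backward.isDefEq.respectTransparency false
set_option maxHeartbeats 1000000

noncomputable section

universe u

open CategoryTheory CategoryTheory.Limits AlgebraicGeometry TopologicalSpace Opposite

namespace PicLocDescLib

variable {k R : Type u} [Field k] [CommRing R] [IsLocalRing R] [Algebra k R]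
variable (hres : Function.Bijective (algebraMap k (IsLocalRing.ResidueField R))) (𝓗 : PicLoc.HensFamily k R)
variable {X : Scheme.{u}} (f : X ⟶ Spec (CommRingCat.of R))

theorem cl_eq_iff {Y : Scheme.{u}} {L M : Y.Modules} : PicF.cl L = PicF.cl M ↔ Nonempty (L ≅ M) :=
  Equivalence.quot_mk_eq_iff ⟨fun L => ⟨Iso.refl L⟩, fun ⟨e⟩ => ⟨e.symm⟩, fun ⟨e⟩ ⟨e'⟩ => ⟨e ≪≫ e'⟩⟩ L M

/-- The map on presheaves. -/
abbrev mapX : PicLoc.prePic (PicLoc.fS f) 𝓗.G ⟶ PicLoc.prePic f 𝓗.G :=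
  PicLoc.prePicMapX X.toSpecΓ (PicLoc.toSpecΓ_fS f) 𝓗.G

/-- `B = Γ(T, O)`. -/
abbrev gT (T : Over (PicLoc.base k)) : CommAlgCat.{u} k := (PicLoc.ΓAlg k).obj (op T)

theorem map_val {T T' : Over (PicLoc.base k)} (a : T' ⟶ T) (c : (PicLoc.prePic f 𝓗.G).obj (op T)) :
    ((PicLoc.prePic f 𝓗.G).map a.op c).1 =
      PicF.pullCl ((PicLoc.twist f 𝓗.G).map ((PicLoc.ΓAlg k).map a.op).op) c.1 := rfl

theorem mapX_val (T : Over (PicLoc.base k)) (d : (PicLoc.prePic (PicLoc.fS f) 𝓗.G).obj (op T)) :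
    ((mapX 𝓗 f).app (op T) d).1 = PicF.pullCl (pS 𝓗 f (gT T)) d.1 := rfl

theorem mem_range_iff (T : Over (PicLoc.base k)) (c : (PicLoc.prePic f 𝓗.G).obj (op T))
    {L : (Xt 𝓗 f (gT T)).Modules} (hL : PicF.cl L = c.1) :
    c ∈ Set.range ((mapX 𝓗 f).app (op T)) ↔
      ∃ N, PicF.IsInvertible N ∧ Nonempty (KFlatLib.pb (pS 𝓗 f (gT T)) N ≅ L) := by
  constructor
  · rintro ⟨⟨d, N, rfl, hN⟩, rfl⟩
    exact ⟨N, hN, cl_eq_iff.1 hL.symm⟩
  · rintro ⟨N, hN, e⟩
    exact ⟨⟨PicF.cl N, N, rfl, hN⟩, Subtype.ext ((cl_eq_iff.2 e).trans hL)⟩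

theorem preUnit_mem_range (T : Over (PicLoc.base k)) :
    PicLoc.preUnit f 𝓗.G T ∈ Set.range ((mapX 𝓗 f).app (op T)) :=
  ⟨PicLoc.preUnit (PicLoc.fS f) 𝓗.G T, PicLoc.invCl_map_unitPicSet (pS 𝓗 f (gT T))⟩

theorem hom_ΓAlg_map {T T' : Over (PicLoc.base k)} (a : T' ⟶ T) :
    ((PicLoc.ΓAlg k).map a.op).hom.toRingHom = a.left.appTop.hom := rfl

variable [QuasiCompact f] [QuasiSeparated f]

include hres in
theorem injective_mapX (T : Over (PicLoc.base k)) : Function.Injective ((mapX 𝓗 f).app (op T)) := by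
  rintro ⟨d, N, rfl, hN⟩ ⟨d', N', rfl, hN'⟩ h
  obtain ⟨e⟩ := cl_eq_iff.1 (congrArg Subtype.val h)
  exact Subtype.ext (cl_eq_iff.2 (iso_of_pull hres 𝓗 f _ hN hN' e))

include hres in
/-- Classes which come from `S~` on a flat affine covering come from `S~`. -/
theorem mem_range_of_cover (T : Over (PicLoc.base k)) [IsAffine T.left] {ι : Type u} [Finite ι]
    (W : ι → Over (PicLoc.base k)) [∀ i, IsAffine (W i).left] (a : ∀ i, W i ⟶ T) [∀ i, Flat (a i).left]
    (hsurj : ∀ x : T.left, ∃ i, x ∈ Set.range (a i).left) (c : (PicLoc.prePic f 𝓗.G).obj (op T))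
    (hc : ∀ i, (PicLoc.prePic f 𝓗.G).map (a i).op c ∈ Set.range ((mapX 𝓗 f).app (op (W i)))) :
    c ∈ Set.range ((mapX 𝓗 f).app (op T)) := by
  obtain ⟨L, hL, -⟩ := c.2
  refine (mem_range_iff 𝓗 f T c hL).2 (exists_descend hres 𝓗 f (gT T) (fun i => gT (W i))
    (fun i => (PicLoc.ΓAlg k).map (a i).op) (fun i => ?_) (fun p => ?_) L fun i => ?_)
  · rw [hom_ΓAlg_map]
    exact HasRingHomProperty.appTop @Flat (a i).left inferInstance
  · let p' : Spec Γ(T.left, ⊤) := p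
    obtain ⟨i, y, hy⟩ := hsurj ((inv T.left.toSpecΓ) p')
    refine ⟨i, (W i).left.toSpecΓ y, ?_⟩
    show Spec.map (a i).left.appTop ((W i).left.toSpecΓ y) = p'
    rw [← Scheme.Hom.comp_apply, ← Scheme.toSpecΓ_naturality, Scheme.Hom.comp_apply, hy,
      ← Scheme.Hom.comp_apply, IsIso.inv_hom_id]
    rfl
  · obtain ⟨N, hN, ⟨e⟩⟩ := (mem_range_iff 𝓗 f (W i) _
      (L := (Scheme.Modules.pullback ((PicLoc.twist f 𝓗.G).map ((PicLoc.ΓAlg k).map (a i).op).op)).obj L)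
      (by rw [map_val, ← hL]; rfl)).1 (hc i)
    exact ⟨N, hN, ⟨e.symm⟩⟩

include hres in
/-- A class killed in the associated fppf sheaf comes from `S~`. -/
theorem mem_range_of_toSh_fppf (T : Over (PicLoc.base k)) [IsAffine T.left]
    (c : (PicLoc.prePic f 𝓗.G).obj (op T))
    (h : (PicLoc.toSh f 𝓗.G Scheme.fppfPrecoverage).app (op T) c = PicLoc.shUnit f 𝓗.G Scheme.fppfPrecoverage T) :
    c ∈ Set.range ((mapX 𝓗 f).app (op T)) := by
  obtain ⟨U, q, hq, hqe⟩ := FppfLocusLib.exists_family _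
    (Presheaf.equalizerSieve_mem (QuotSh.J Scheme.fppfPrecoverage (PicLoc.base k)) (toSheafify _ (PicLoc.prePic f 𝓗.G))
      c (PicLoc.preUnit f 𝓗.G T) h)
  choose z hz using fun x => (hq x).2.2
  choose V hV hzV hVT using fun x => exists_isAffineOpen_mem_and_subset (X := U x) (x := z x) (U := ⊤) trivial
  haveI := fun x => (hq x).1
  haveI := fun x => (hq x).2.1
  obtain ⟨s, hs⟩ := isCompact_univ.elim_finite_subcover
    (fun x : T.left => Set.range ((V x).ι ≫ q x))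
    (fun x => ((V x).ι ≫ q x).isOpenMap.isOpen_range) fun x _ => Set.mem_iUnion.2 ⟨x, ⟨z x, hzV x⟩, hz x⟩
  let W : {x // x ∈ s} → Over (PicLoc.base k) := fun x => (Over.map T.hom).obj (Over.mk ((V x).ι ≫ q x))
  let a : ∀ x, W x ⟶ T := fun x => Over.homMk ((V x).ι ≫ q x) rfl
  haveI : ∀ x, IsAffine (W x).left := fun x => hV x
  haveI : ∀ x, Flat (a x).left := fun x => inferInstanceAs (Flat ((V x.1).ι ≫ q x.1))
  refine mem_range_of_cover hres 𝓗 f T W a (fun y => ?_) c fun x => ?_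
  · obtain ⟨x, hx⟩ := Set.mem_iUnion.1 (hs (Set.mem_univ y))
    obtain ⟨hxs, hx⟩ := Set.mem_iUnion.1 hx
    exact ⟨⟨x, hxs⟩, hx⟩
  · let b : W x ⟶ (Over.map T.hom).obj (Over.mk (q x.1)) := Over.homMk (V x.1).ι (Category.assoc _ _ _).symm
    have e : a x = b ≫ (Over.homMk (q x.1) rfl : (Over.map T.hom).obj (Over.mk (q x.1)) ⟶ T) := rfl
    rw [e, op_comp, Functor.map_comp, ConcreteCategory.comp_apply,
      show (PicLoc.prePic f 𝓗.G).map _ c = _ from hqe x.1, PicLoc.prePic_map_preUnit, PicLoc.prePic_map_preUnit]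
    exact preUnit_mem_range 𝓗 f _

include hres in
/-- A class from `S~` is killed in the associated etale sheaf. -/
theorem toSh_etale_of_mem_range (hfin : (PicLoc.globUnder f).hom.hom.Finite) (T : Over (PicLoc.base k))
    (c : (PicLoc.prePic f 𝓗.G).obj (op T)) (hc : c ∈ Set.range ((mapX 𝓗 f).app (op T))) :
    (PicLoc.toSh f 𝓗.G Scheme.etalePrecoverage).app (op T) c =
      PicLoc.shUnit f 𝓗.G Scheme.etalePrecoverage T := by
  obtain ⟨⟨d, N, rfl, hN⟩, rfl⟩ := hc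
  choose g hg hgt using fun x : T.left => exists_local_trivial hres 𝓗 f hfin (gT T) hN (T.left.toSpecΓ x)
  have hsep := ((isSheaf_iff_isSheaf_of_type (QuotSh.J Scheme.etalePrecoverage (PicLoc.base k))
    (PicLoc.sh f 𝓗.G Scheme.etalePrecoverage).obj).1
      (PicLoc.sh f 𝓗.G Scheme.etalePrecoverage).property).isSeparated
  let R : Sieve T := (Sieve.overEquiv T).symm (Sieve.generate (Presieve.ofArrows
    (fun x : T.left => (T.left.basicOpen (show Γ(T.left, ⊤) from g x) : Scheme.{u})) fun x => (T.left.basicOpen _).ι))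
  have hR : R ∈ QuotSh.J Scheme.etalePrecoverage (PicLoc.base k) T := by
    refine GrothendieckTopology.overEquiv_symm_mem_over _ T _ (Precoverage.generate_mem_toGrothendieck ?_)
    refine (Scheme.ofArrows_mem_precoverage_iff _).2 ⟨fun x => ⟨x, ⟨x, ?_⟩, rfl⟩, fun x => ?_⟩
    · rw [← Scheme.toSpecΓ_preimage_basicOpen]
      exact hg x
    · show Etale _
      infer_instance
  refine (hsep R hR).ext fun W b hb => ?_
  refine (NatTrans.naturality_apply (PicLoc.toSh f 𝓗.G Scheme.etalePrecoverage) b.op _).symm.trans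
    ((congrArg _ ?_).trans (NatTrans.naturality_apply (PicLoc.toSh f 𝓗.G Scheme.etalePrecoverage) b.op _))
  rw [PicLoc.prePic_map_preUnit]
  rw [Sieve.overEquiv_symm_iff] at hb
  obtain ⟨_, b', _, ⟨x⟩, hb'⟩ := hb
  have hu : IsUnit (((PicLoc.ΓAlg k).map b.op).hom (g x)) := by
    show IsUnit (b.left.appTop (show Γ(T.left, ⊤) from g x))
    rw [← hb', Scheme.Hom.comp_appTop, ConcreteCategory.comp_apply]
    refine IsUnit.map _ ?_
    apply RingedSpace.isUnit_of_isUnit_germ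
    intro y hy
    have hy' : (T.left.basicOpen (show Γ(T.left, ⊤) from g x)).ι y ∈ T.left.basicOpen (show Γ(T.left, ⊤) from g x) := y.2
    have h1 : y ∈ (T.left.basicOpen (show Γ(T.left, ⊤) from g x)).ι ⁻¹ᵁ T.left.basicOpen (show Γ(T.left, ⊤) from g x) := hy'
    rw [Scheme.preimage_basicOpen] at h1
    exact (Scheme.mem_basicOpen _ _ _ hy).1 h1
  obtain ⟨e⟩ := hgt x (gT W) _ hu
  refine Subtype.ext ?_
  rw [map_val, mapX_val, ← PicLoc.pullCl_comp, (isPullback_map 𝓗 f ((PicLoc.ΓAlg k).map b.op)).w,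
    PicLoc.pullCl_comp]
  exact (congrArg (PicF.pullCl _) (cl_eq_iff.2 ⟨e⟩)).trans (cl_eq_iff.2 ⟨PicLoc.pullbackStructureIso _⟩)

omit [QuasiCompact f] [QuasiSeparated f] in
/-- Killed in the etale sheaf implies killed in the fppf sheaf. -/
theorem toSh_fppf_of_etale (T : Over (PicLoc.base k)) (c : (PicLoc.prePic f 𝓗.G).obj (op T))
    (h : (PicLoc.toSh f 𝓗.G Scheme.etalePrecoverage).app (op T) c =
      PicLoc.shUnit f 𝓗.G Scheme.etalePrecoverage T) :
    (PicLoc.toSh f 𝓗.G Scheme.fppfPrecoverage).app (op T) c =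
      PicLoc.shUnit f 𝓗.G Scheme.fppfPrecoverage T := by
  let hle := BigSite.J_mono BigSite.etalePrecoverage_le_fppfPrecoverage (PicLoc.base k)
  have e : PicLoc.toSh f 𝓗.G Scheme.etalePrecoverage ≫ PicLoc.compareSh f 𝓗.G hle =
      PicLoc.toSh f 𝓗.G Scheme.fppfPrecoverage := toSheafify_sheafifyLift _ _ _
  rw [PicLoc.shUnit, ← e, NatTrans.comp_app, ConcreteCategory.comp_apply, ConcreteCategory.comp_apply, h]
  rfl

end PicLocDescLib
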